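import Groth.Agent.Diff16.EtaleExt
import Mathlib.RingTheory.Etale.Basic
import Mathlib.RingTheory.IsTensorProduct
import Mathlib.RingTheory.Localization.BaseChange

/-! Universal differential operators: existence, base change, localization. -/

set_option autoImplicit false
set_option linter.unusedSectionVars false

open scoped TensorProduct

noncomputable section

namespace Groth.Agent.Diff16

universe u

open _root_.Diff16 (commutator IsDiffOpLE)

section Lin

variable {R S : Type u} [CommRing R] [CommRing S] [Algebra R S]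
  {M N : Type u} [AddCommGroup M] [Module S M] [Module R M] [IsScalarTower R S M]
  [AddCommGroup N] [Module S N] [Module R N] [IsScalarTower R S N]
  {N' : Type u} [AddCommGroup N'] [Module S N'] [Module R N'] [IsScalarTower R S N']

theorem commutator_linear_comp (α : N →ₗ[S] N') (D : M →ₗ[R] N) (b : S) :
    commutator R S M N' (α.restrictScalars R ∘ₗ D) b = α.restrictScalars R ∘ₗ commutator R S M N D b := by
  ext m
  simp [commutator_apply]

theorem isDiffOpLE_linear_comp (α : N →ₗ[S] N') : ∀ {k : ℕ} {D : M →ₗ[R] N}, IsDiffOpLE R S M N k D →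
    IsDiffOpLE R S M N' k (α.restrictScalars R ∘ₗ D)
  | 0, D, h => fun b m => by simp [show D (b • m) = b • D m from h b m]
  | k + 1, D, h => fun b => by rw [commutator_linear_comp]; exact isDiffOpLE_linear_comp α (h b)

theorem commutator_comp_linear {M₀ : Type u} [AddCommGroup M₀] [Module S M₀] [Module R M₀] [IsScalarTower R S M₀]
    (β : M₀ →ₗ[S] M) (D : M →ₗ[R] N) (b : S) :
    commutator R S M₀ N (D ∘ₗ β.restrictScalars R) b = commutator R S M N D b ∘ₗ β.restrictScalars R := by
  ext m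
  simp [commutator_apply]

theorem isDiffOpLE_comp_linear {M₀ : Type u} [AddCommGroup M₀] [Module S M₀] [Module R M₀] [IsScalarTower R S M₀]
    (β : M₀ →ₗ[S] M) : ∀ {k : ℕ} {D : M →ₗ[R] N}, IsDiffOpLE R S M N k D →
    IsDiffOpLE R S M₀ N k (D ∘ₗ β.restrictScalars R)
  | 0, D, h => fun b m => by simp [show ∀ x, D (b • x) = b • D x from h b]
  | k + 1, D, h => fun b => by rw [commutator_comp_linear]; exact isDiffOpLE_comp_linear β (h b)

theorem isDiffOpLE_of_jointly_injective {ι : Type*} (Q : ι → Type u) [∀ i, AddCommGroup (Q i)]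
    [∀ i, Module S (Q i)] [∀ i, Module R (Q i)] [∀ i, IsScalarTower R S (Q i)] (α : ∀ i, N →ₗ[S] Q i)
    (hinj : ∀ x : N, (∀ i, α i x = 0) → x = 0) : ∀ {k : ℕ} {D : M →ₗ[R] N},
    (∀ i, IsDiffOpLE R S M (Q i) k ((α i).restrictScalars R ∘ₗ D)) → IsDiffOpLE R S M N k D
  | 0, D, h => fun b m => sub_eq_zero.1 (hinj _ fun i => by
      have h1 : α i (D (b • m)) = b • α i (D m) := h i b m
      rw [map_sub, (α i).map_smul, h1, sub_self])
  | k + 1, D, h => fun b => isDiffOpLE_of_jointly_injective Q α hinj fun i => by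
      rw [← commutator_linear_comp]; exact h i b

variable (R S M) in
/-- `m ↦ 1 ⊗ m` -/
def oneTmul : M →ₗ[R] S ⊗[R] M := TensorProduct.mk R S M 1

variable (R S M) in
/-- the submodules defining principal parts -/
def ppSubmodules (k : ℕ) : Set (Submodule S (S ⊗[R] M)) :=
  {W | IsDiffOpLE R S M ((S ⊗[R] M) ⧸ W) k (W.mkQ.restrictScalars R ∘ₗ oneTmul R S M)}

variable (R S M) in
/-- relations of principal parts -/
def ppRel (k : ℕ) : Submodule S (S ⊗[R] M) := sInf (ppSubmodules R S M k)

theorem exists_universal (k : ℕ) :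
    ∃ (P : Type u) (_ : AddCommGroup P) (_ : Module S P) (_ : Module R P) (_ : IsScalarTower R S P)
      (D : M →ₗ[R] P), IsDiffOpLE R S M P k D ∧
        ∀ (N : Type u) [AddCommGroup N] [Module S N] [Module R N] [IsScalarTower R S N] (D' : M →ₗ[R] N),
          IsDiffOpLE R S M N k D' → ∃! α : P →ₗ[S] N, α.restrictScalars R ∘ₗ D = D' := by
  refine ⟨(S ⊗[R] M) ⧸ ppRel R S M k, inferInstance, inferInstance, inferInstance, inferInstance,
    (ppRel R S M k).mkQ.restrictScalars R ∘ₗ oneTmul R S M, ?_, fun N _ _ _ _ D' hD' => ?_⟩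
  · refine isDiffOpLE_of_jointly_injective (ι := ppSubmodules R S M k) (fun W => (S ⊗[R] M) ⧸ W.1)
      (fun W => (ppRel R S M k).liftQ W.1.mkQ (by rw [Submodule.ker_mkQ]; exact sInf_le W.2))
      (fun x hx => ?_) (fun W => ?_)
    · obtain ⟨y, rfl⟩ := Submodule.Quotient.mk_surjective _ x
      rw [Submodule.Quotient.mk_eq_zero, ppRel, Submodule.mem_sInf]
      exact fun W hW => (Submodule.Quotient.mk_eq_zero W).1 (hx ⟨W, hW⟩)
    · exact W.2
  · let L : S ⊗[R] M →ₗ[S] N := LinearMap.liftBaseChange S D'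
    have hLapply : ∀ m, L ((1 : S) ⊗ₜ[R] m) = D' m := fun m => by
      show LinearMap.liftBaseChange S D' _ = _
      rw [LinearMap.liftBaseChange_tmul, one_smul]
    have hmem : LinearMap.ker L ∈ ppSubmodules R S M k := by
      refine isDiffOpLE_of_jointly_injective (ι := PUnit.{u + 1}) (fun _ => N)
        (fun _ => (LinearMap.ker L).liftQ L le_rfl) (fun x hx => ?_) (fun _ => ?_)
      · obtain ⟨y, rfl⟩ := Submodule.Quotient.mk_surjective _ x
        rw [Submodule.Quotient.mk_eq_zero]
        exact hx PUnit.unit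
      · convert hD' using 1
        exact LinearMap.ext hLapply
    refine ⟨(ppRel R S M k).liftQ L (sInf_le hmem), LinearMap.ext hLapply, fun β hβ => ?_⟩
    refine Submodule.linearMap_qext _ (LinearMap.ext fun t => ?_)
    induction t using TensorProduct.induction_on with
    | zero => rw [map_zero, map_zero]
    | tmul s m =>
      have hs : s ⊗ₜ[R] m = s • ((1 : S) ⊗ₜ[R] m) := by rw [TensorProduct.smul_tmul', smul_eq_mul, mul_one]
      rw [hs, map_smul, map_smul]
      exact congrArg _ ((LinearMap.congr_fun hβ m).trans (hLapply m).symm)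
    | add x y hx hy => rw [map_add, map_add, hx, hy]

end Lin

section Base

variable {R S S' : Type u} [CommRing R] [CommRing S] [CommRing S'] [Algebra R S] [Algebra R S'] [Algebra S S']
  [IsScalarTower R S S']
  {M : Type u} [AddCommGroup M] [Module S M] [Module R M] [IsScalarTower R S M]
  {N' : Type u} [AddCommGroup N'] [Module S' N'] [Module S N'] [IsScalarTower S S' N'] [Module R N']
  [IsScalarTower R S' N'] [IsScalarTower R S N']

theorem isDiffOpLE_restrict : ∀ {k : ℕ} {E : S' ⊗[S] M →ₗ[R] N'}, IsDiffOpLE R S' (S' ⊗[S] M) N' k E →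
    IsDiffOpLE R S M N' k (E ∘ₗ (TensorProduct.mk S S' M 1).restrictScalars R)
  | 0, E, h => fun b m => by
    show E ((1 : S') ⊗ₜ[S] (b • m)) = b • E ((1 : S') ⊗ₜ[S] m)
    rw [TensorProduct.tmul_smul, ← algebraMap_smul S' b ((1 : S') ⊗ₜ[S] m), h (algebraMap S S' b), algebraMap_smul]
  | k + 1, E, h => fun b => by
    have : commutator R S M N' (E ∘ₗ (TensorProduct.mk S S' M 1).restrictScalars R) b =
        commutator R S' (S' ⊗[S] M) N' E (algebraMap S S' b) ∘ₗ (TensorProduct.mk S S' M 1).restrictScalars R := by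
      ext m
      simp [commutator_apply, algebraMap_smul]
    rw [this]
    exact isDiffOpLE_restrict (h _)

theorem universal_baseChange [Algebra.FormallyEtale S S'] {k : ℕ} {P : Type u} [AddCommGroup P] [Module S P]
    [Module R P] [IsScalarTower R S P] {Du : M →ₗ[R] P}
    (huniv : ∀ (N : Type u) [AddCommGroup N] [Module S N] [Module R N] [IsScalarTower R S N]
      (D : M →ₗ[R] N), IsDiffOpLE R S M N k D → ∃! α : P →ₗ[S] N, α.restrictScalars R ∘ₗ Du = D)
    {Du' : S' ⊗[S] M →ₗ[R] S' ⊗[S] P} (hDu' : IsDiffOpLE R S' (S' ⊗[S] M) (S' ⊗[S] P) k Du')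
    (hext : Du' ∘ₗ (TensorProduct.mk S S' M 1).restrictScalars R =
      (TensorProduct.mk S S' P 1).restrictScalars R ∘ₗ Du)
    {D' : S' ⊗[S] M →ₗ[R] N'} (hD' : IsDiffOpLE R S' (S' ⊗[S] M) N' k D') :
    ∃! α : S' ⊗[S] P →ₗ[S'] N', α.restrictScalars R ∘ₗ Du' = D' := by
  obtain ⟨α₀, hα₀, huniq⟩ := huniv N' _ (isDiffOpLE_restrict hD')
  have hDu'1 : ∀ m : M, Du' ((1 : S') ⊗ₜ[S] m) = (1 : S') ⊗ₜ[S] Du m := fun m => LinearMap.congr_fun hext m
  refine ⟨LinearMap.liftBaseChange S' α₀, ?_, fun β hβ => ?_⟩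
  · refine ext_of_vanish (TensorProduct.mk S S' M 1) span_range_mk (isDiffOpLE_linear_comp _ hDu') hD' fun m => ?_
    show LinearMap.liftBaseChange S' α₀ (Du' ((1 : S') ⊗ₜ[S] m)) = D' ((1 : S') ⊗ₜ[S] m)
    rw [hDu'1, LinearMap.liftBaseChange_tmul, one_smul]
    exact LinearMap.congr_fun hα₀ m
  · have hb : (β.restrictScalars S) ∘ₗ TensorProduct.mk S S' P 1 = α₀ := huniq _ (LinearMap.ext fun m => by
      show β ((1 : S') ⊗ₜ[S] Du m) = D' ((1 : S') ⊗ₜ[S] m)
      rw [← hDu'1]
      exact LinearMap.congr_fun hβ _)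
    refine LinearMap.ext fun t => ?_
    induction t using TensorProduct.induction_on with
    | zero => rw [map_zero, map_zero]
    | tmul s p =>
      rw [LinearMap.liftBaseChange_tmul, ← LinearMap.congr_fun hb p]
      show β (s ⊗ₜ[S] p) = s • β ((1 : S') ⊗ₜ[S] p)
      rw [← map_smul, TensorProduct.smul_tmul', smul_eq_mul, mul_one]
    | add x y hx hy => rw [map_add, map_add, hx, hy]

theorem existsUnique_of_isBaseChange [Algebra.FormallyEtale S S']
    {N : Type u} [AddCommGroup N] [Module S N] [Module R N] [IsScalarTower R S N]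
    {M₁ N₁ : Type u} [AddCommGroup M₁] [Module S' M₁] [Module S M₁] [IsScalarTower S S' M₁] [Module R M₁]
    [IsScalarTower R S' M₁] [AddCommGroup N₁] [Module S' N₁] [Module S N₁] [IsScalarTower S S' N₁] [Module R N₁]
    [IsScalarTower R S' N₁] [IsScalarTower R S M₁] [IsScalarTower R S N₁]
    {f : M →ₗ[S] M₁} (hf : IsBaseChange S' f) {g : N →ₗ[S] N₁} (hg : IsBaseChange S' g)
    {k : ℕ} {D : M →ₗ[R] N} (hD : IsDiffOpLE R S M N k D) :
    ∃! E : M₁ →ₗ[R] N₁, IsDiffOpLE R S' M₁ N₁ k E ∧
      E ∘ₗ f.restrictScalars R = g.restrictScalars R ∘ₗ D := by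
  obtain ⟨D', h1, h2⟩ := exists_diffOp_baseChange (S' := S') hD
  have hval : ∀ m, hg.equiv (D' (hf.equiv.symm (f m))) = g (D m) := fun m => by
    rw [hf.equiv_symm_apply, h2, hg.equiv_tmul, one_smul]
  refine ⟨hg.equiv.toLinearMap.restrictScalars R ∘ₗ (D' ∘ₗ hf.equiv.symm.toLinearMap.restrictScalars R),
    ⟨isDiffOpLE_linear_comp _ (isDiffOpLE_comp_linear _ h1), LinearMap.ext hval⟩, fun E hE => ?_⟩
  refine ext_of_vanish f ?_ hE.1 (isDiffOpLE_linear_comp _ (isDiffOpLE_comp_linear _ h1))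
    fun m => (LinearMap.congr_fun hE.2 m).trans (hval m).symm
  refine top_unique fun x _ => ?_
  obtain ⟨t, rfl⟩ := hf.equiv.surjective x
  induction t using TensorProduct.induction_on with
  | zero => simp
  | tmul s m => rw [hf.equiv_tmul]; exact Submodule.smul_mem _ _ (Submodule.subset_span ⟨m, rfl⟩)
  | add a b ha hb => rw [map_add]; exact add_mem (ha Submodule.mem_top) (hb Submodule.mem_top)

end Base

end Groth.Agent.Diff16
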