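import Mathlib.RingTheory.Kaehler.Basic
import Mathlib.RingTheory.TensorProduct.Basic
import Mathlib.Algebra.BigOperators.Group.Finset.Powerset
import Mathlib.Algebra.BigOperators.Fin
import Groth.Prelude.Def_DiffOp

set_option autoImplicit false
set_option linter.unusedSectionVars false

open scoped TensorProduct BigOperators

namespace Groth.Agent.Diff16

universe u v

open _root_.Diff16 (commutator IsDiffOpLE linearize)

section

variable {A B : Type u} [CommRing A] [CommRing B] [Algebra A B]
variable {M N P : Type v} [AddCommGroup M] [Module A M] [Module B M] [IsScalarTower A B M]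
  [AddCommGroup N] [Module A N] [Module B N] [IsScalarTower A B N]
  [AddCommGroup P] [Module A P] [Module B P] [IsScalarTower A B P]

/-- multiplication by `b` as an `A`-linear map -/
noncomputable def mulL (A : Type u) {B : Type u} [CommRing A] [CommRing B] [Algebra A B]
    (M : Type v) [AddCommGroup M] [Module A M] [Module B M] [IsScalarTower A B M] (b : B) :
    M →ₗ[A] M := (LinearMap.lsmul B M b).restrictScalars A

@[simp] lemma mulL_apply (b : B) (m : M) : mulL A M b m = b • m := rfl

lemma commutator_apply (D : M →ₗ[A] N) (b : B) (m : M) :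
    commutator A B M N D b m = D (b • m) - b • D m := rfl

lemma commutator_eq (D : M →ₗ[A] N) (b : B) :
    commutator A B M N D b = D ∘ₗ mulL A M b - mulL A N b ∘ₗ D := rfl

lemma commutator_add (D D' : M →ₗ[A] N) (b : B) :
    commutator A B M N (D + D') b = commutator A B M N D b + commutator A B M N D' b := by
  ext m; simp [commutator_apply, smul_add]; abel

lemma commutator_zero (b : B) : commutator A B M N (0 : M →ₗ[A] N) b = 0 := by
  ext m; simp [commutator_apply]

lemma commutator_neg (D : M →ₗ[A] N) (b : B) :
    commutator A B M N (-D) b = - commutator A B M N D b := by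
  ext m; simp [commutator_apply]; abel

lemma commutator_smul (D : M →ₗ[A] N) (b c : B) :
    commutator A B M N (c • D) b = c • commutator A B M N D b := by
  ext m; simp [commutator_apply, smul_sub, smul_comm b c]

lemma isDiffOpLE_zero_map (n : ℕ) : IsDiffOpLE A B M N n (0 : M →ₗ[A] N) := by
  induction n with
  | zero => intro b m; simp
  | succ n ih => intro b; rw [commutator_zero]; exact ih

lemma isDiffOpLE_add (n : ℕ) {D D' : M →ₗ[A] N} (h : IsDiffOpLE A B M N n D)
    (h' : IsDiffOpLE A B M N n D') : IsDiffOpLE A B M N n (D + D') := by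
  induction n generalizing D D' with
  | zero => intro b m; simp [h b m, h' b m]
  | succ n ih => intro b; rw [commutator_add]; exact ih (h b) (h' b)

lemma isDiffOpLE_neg (n : ℕ) {D : M →ₗ[A] N} (h : IsDiffOpLE A B M N n D) :
    IsDiffOpLE A B M N n (-D) := by
  induction n generalizing D with
  | zero => intro b m; simp [h b m]
  | succ n ih => intro b; rw [commutator_neg]; exact ih (h b)

lemma isDiffOpLE_sub (n : ℕ) {D D' : M →ₗ[A] N} (h : IsDiffOpLE A B M N n D)
    (h' : IsDiffOpLE A B M N n D') : IsDiffOpLE A B M N n (D - D') := by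
  rw [sub_eq_add_neg]; exact isDiffOpLE_add n h (isDiffOpLE_neg n h')

lemma isDiffOpLE_smul (n : ℕ) (c : B) {D : M →ₗ[A] N} (h : IsDiffOpLE A B M N n D) :
    IsDiffOpLE A B M N n (c • D) := by
  induction n generalizing D with
  | zero => intro b m; simp [h b m, smul_comm b c]
  | succ n ih => intro b; rw [commutator_smul]; exact ih (h b)

lemma isDiffOpLE_succ_self (n : ℕ) {D : M →ₗ[A] N} (h : IsDiffOpLE A B M N n D) :
    IsDiffOpLE A B M N (n + 1) D := by
  induction n generalizing D with
  | zero =>
    intro b
    have : commutator A B M N D b = 0 := by ext m; simp [commutator_apply, h b m]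
    rw [this]; exact isDiffOpLE_zero_map 0
  | succ n ih => intro b; exact ih (h b)

lemma isDiffOpLE_mono {n n' : ℕ} (hn : n ≤ n') {D : M →ₗ[A] N} (h : IsDiffOpLE A B M N n D) :
    IsDiffOpLE A B M N n' D := by
  induction hn with
  | refl => exact h
  | step _ ih => exact isDiffOpLE_succ_self _ ih

lemma commutator_comp (D : M →ₗ[A] N) (D' : N →ₗ[A] P) (b : B) :
    commutator A B M P (D' ∘ₗ D) b =
      commutator A B N P D' b ∘ₗ D + D' ∘ₗ commutator A B M N D b := by
  ext m; simp [commutator_apply]

lemma isDiffOpLE_comp (s : ℕ) : ∀ (n n' : ℕ) (_ : n + n' = s) (D : M →ₗ[A] N) (D' : N →ₗ[A] P),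
    IsDiffOpLE A B M N n D → IsDiffOpLE A B N P n' D' →
    IsDiffOpLE A B M P s (D' ∘ₗ D) := by
  induction s with
  | zero =>
    intro n n' hs D D' h h'
    obtain ⟨rfl, rfl⟩ := Nat.add_eq_zero_iff.1 hs
    intro b m; simp [h b m, h' b (D m)]
  | succ s ih =>
    intro n n' hs D D' h h' b
    rw [commutator_comp]
    refine isDiffOpLE_add s ?_ ?_
    · rcases n' with _ | k
      · have : commutator A B N P D' b = 0 := by ext m; simp [commutator_apply, h' b m]
        rw [this, LinearMap.zero_comp]; exact isDiffOpLE_zero_map s
      · exact ih n k (by omega) D _ h (h' b)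
    · rcases n with _ | k
      · have : commutator A B M N D b = 0 := by ext m; simp [commutator_apply, h b m]
        rw [this, LinearMap.comp_zero]; exact isDiffOpLE_zero_map s
      · exact ih k n' (by omega) _ D' (h b) h'

lemma isDiffOpLE_mulL (c : B) : IsDiffOpLE A B M M 0 (mulL A M c) := by
  intro b m; simp [smul_comm b c]

lemma isDiffOpLE_comp_mulL (n : ℕ) (c : B) {D : M →ₗ[A] N} (h : IsDiffOpLE A B M N n D) :
    IsDiffOpLE A B M N n (D ∘ₗ mulL A M c) :=
  isDiffOpLE_comp n 0 n (Nat.zero_add n) _ D (isDiffOpLE_mulL c) h

lemma commutator_mul (D : M →ₗ[A] N) (b c : B) :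
    commutator A B M N D (b * c) =
      commutator A B M N D b ∘ₗ mulL A M c + b • commutator A B M N D c := by
  ext m; simp [commutator_apply, smul_sub, mul_smul]

lemma isDiffOpLE_of_generators (s : Set B) (hs : Algebra.adjoin A s = ⊤) (n : ℕ) (D : M →ₗ[A] N)
    (hD : ∀ g ∈ s, IsDiffOpLE A B M N n (commutator A B M N D g)) :
    IsDiffOpLE A B M N (n + 1) D := by
  intro b
  have hb : b ∈ Algebra.adjoin A s := by rw [hs]; exact Algebra.mem_top
  induction hb using Algebra.adjoin_induction with
  | mem x hx => exact hD x hx
  | algebraMap r =>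
    have : commutator A B M N D (algebraMap A B r) = 0 := by
      ext m; simp [commutator_apply]
    rw [this]; exact isDiffOpLE_zero_map n
  | add x y _ _ hx hy =>
    have : commutator A B M N D (x + y) = commutator A B M N D x + commutator A B M N D y := by
      ext m; simp [commutator_apply, add_smul]; abel
    rw [this]; exact isDiffOpLE_add n hx hy
  | mul x y _ _ hx hy =>
    rw [commutator_mul]
    exact isDiffOpLE_add n (isDiffOpLE_comp_mulL n y hx) (isDiffOpLE_smul n x hy)

/-- the alternating sum attached to a finite family of elements -/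
noncomputable def altSum {ι : Type*} [DecidableEq ι] (s : Finset ι) (b : ι → B) (D : M →ₗ[A] N)
    (t : M) : N :=
  ∑ H ∈ s.powerset, ((-1 : ℤ) ^ H.card) • ((∏ i ∈ H, b i) • D ((∏ i ∈ s \ H, b i) • t))

lemma altSum_insert {ι : Type*} [DecidableEq ι] {a : ι} {s : Finset ι} (ha : a ∉ s) (b : ι → B)
    (D : M →ₗ[A] N) (t : M) :
    altSum (insert a s) b D t = altSum s b (commutator A B M N D (b a)) t := by
  unfold altSum
  rw [Finset.sum_powerset_insert ha, ← Finset.sum_add_distrib]
  refine Finset.sum_congr rfl fun H hH => ?_
  have hs : H ⊆ s := Finset.mem_powerset.1 hH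
  have haH : a ∉ H := fun h => ha (hs h)
  have h1 : insert a s \ insert a H = s \ H := by
    ext i; by_cases hi : i = a <;> simp [hi, ha]
  rw [Finset.insert_sdiff_of_notMem _ haH, Finset.prod_insert (by simp [ha]), h1,
    Finset.card_insert_of_notMem haH, Finset.prod_insert haH,
    commutator_apply, pow_succ, mul_neg_one, neg_smul, mul_smul, smul_sub, smul_sub,
    mul_comm (b a) (∏ i ∈ H, b i), mul_smul, ← sub_eq_add_neg]

lemma altSum_image {ι κ : Type*} [DecidableEq ι] [DecidableEq κ] (e : ι ↪ κ) (s : Finset ι)
    (b : κ → B) (D : M →ₗ[A] N) (t : M) :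
    altSum (s.map e) b D t = altSum s (b ∘ e) D t := by
  unfold altSum
  have h : (s.map e).powerset = s.powerset.image (fun H => H.map e) := by
    ext H; simp [Finset.subset_map_iff, eq_comm]
  rw [h, Finset.sum_image (fun x _ y _ hxy => Finset.map_injective e hxy)]
  refine Finset.sum_congr rfl fun H _ => ?_
  simp [← Finset.map_sdiff, Finset.prod_map]

lemma altSum_univ_succ (n : ℕ) (b : Fin (n + 1) → B) (D : M →ₗ[A] N) (t : M) :
    altSum Finset.univ b D t =
      altSum Finset.univ (b ∘ Fin.succ) (commutator A B M N D (b 0)) t := by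
  have h : (Finset.univ : Finset (Fin (n + 1))) =
      insert 0 ((Finset.univ : Finset (Fin n)).map (Fin.succEmb n)) := by
    ext x; cases x using Fin.cases <;> simp
  rw [h, altSum_insert (by simp), altSum_image]
  rfl

lemma isDiffOpLE_iff_altSum (n : ℕ) (D : M →ₗ[A] N) :
    IsDiffOpLE A B M N n D ↔ ∀ (b : Fin (n + 1) → B) (t : M), altSum Finset.univ b D t = 0 := by
  induction n generalizing D with
  | zero =>
    constructor
    · intro h b t
      rw [altSum_univ_succ]
      simp [altSum, commutator_apply, h (b 0) t]
    · intro h c m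
      have := h (fun _ => c) m
      rw [altSum_univ_succ] at this
      simpa [altSum, commutator_apply, sub_eq_zero] using this
  | succ n ih =>
    constructor
    · intro h b t
      rw [altSum_univ_succ]
      exact (ih _).1 (h (b 0)) _ t
    · intro h c
      refine (ih _).2 fun b t => ?_
      have := h (Fin.cons c b) t
      rw [altSum_univ_succ] at this
      simpa [Function.comp_def] using this

end

section

variable {A B : Type u} [CommRing A] [CommRing B] [Algebra A B]
variable {N : Type u} [AddCommGroup N] [Module A N] [Module B N] [IsScalarTower A B N]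

@[simp] lemma linearize_tmul (D : B →ₗ[A] N) (b m : B) :
    linearize A B B N D (b ⊗ₜ[A] m) = b • D m := rfl

lemma linearize_commutator (D : B →ₗ[A] N) (b : B) (x : B ⊗[A] B) :
    linearize A B B N (commutator A B B N D b) x =
      linearize A B B N D (x * (1 ⊗ₜ[A] b - b ⊗ₜ[A] 1)) := by
  induction x using TensorProduct.induction_on with
  | zero => simp
  | tmul u w =>
    simp [mul_sub, Algebra.TensorProduct.tmul_mul_tmul, commutator_apply, smul_sub, mul_smul,
      mul_comm w b]
  | add x y hx hy => simp only [map_add, add_mul, hx, hy]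

lemma isDiffOpLE_iff_linearize (n : ℕ) (D : B →ₗ[A] N) :
    IsDiffOpLE A B B N n D ↔
      ∀ x ∈ (KaehlerDifferential.ideal A B) ^ (n + 1), linearize A B B N D x = 0 := by
  induction n generalizing D with
  | zero =>
    constructor
    · intro h x hx
      rw [pow_one] at hx
      have : ∀ y : B ⊗[A] B,
          linearize A B B N D y = Algebra.TensorProduct.lmul' A (S := B) y • D 1 := by
        intro y
        induction y using TensorProduct.induction_on with
        | zero => simp
        | tmul u w =>
          have hw := h w 1
          rw [smul_eq_mul, mul_one] at hw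
          simp [hw, mul_smul]
        | add a c ha hc => simp only [map_add, ha, hc, add_smul]
      rw [this, show Algebra.TensorProduct.lmul' A (S := B) x = 0 from RingHom.mem_ker.1 hx,
        zero_smul]
    · intro h b m
      have hmem : ((1 : B) ⊗ₜ[A] (b * m) - b ⊗ₜ[A] m) ∈ KaehlerDifferential.ideal A B := by
        refine RingHom.mem_ker.2 ?_
        simp
      have := h _ (by rwa [pow_one])
      simpa [sub_eq_zero] using this
  | succ n ih =>
    constructor
    · intro h x hx
      rw [pow_succ] at hx
      refine Submodule.mul_induction_on hx ?_ ?_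
      · intro y hy z hz
        rw [← KaehlerDifferential.span_range_eq_ideal] at hz
        induction hz using Submodule.span_induction generalizing y with
        | mem w hw =>
          obtain ⟨b, rfl⟩ := hw
          rw [← linearize_commutator]
          exact (ih _).1 (h b) y hy
        | zero => simp
        | add w w' _ _ hw hw' => rw [mul_add, map_add, hw y hy, hw' y hy, add_zero]
        | smul r w _ hw =>
          rw [smul_eq_mul, ← mul_assoc]
          exact hw (y * r) (Ideal.mul_mem_right r _ hy)
      · intro a c ha hc; rw [map_add, ha, hc, add_zero]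
    · intro h b
      refine (ih _).2 fun x hx => ?_
      rw [linearize_commutator]
      refine h _ ?_
      rw [pow_succ]
      exact Ideal.mul_mem_mul hx (KaehlerDifferential.one_smul_sub_smul_one_mem_ideal A b)

end

end Groth.Agent.Diff16
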