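import Groth.Agent.Diff16.Coordinates
import Mathlib.RingTheory.Etale.Basic
import Mathlib.RingTheory.Etale.Kaehler
import Mathlib.RingTheory.Kaehler.Basic
import Mathlib.RingTheory.TensorProduct.Maps
import Mathlib.RingTheory.IsTensorProduct

/-! Extension of differential operators along formally etale maps. -/

set_option autoImplicit false
set_option linter.unusedSectionVars false

open scoped TensorProduct

noncomputable section

namespace Groth.Agent.Diff16

universe u

open _root_.Diff16 (commutator IsDiffOpLE linearize)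

variable {R S : Type u} [CommRing R] [CommRing S] [Algebra R S]
  {M N : Type u} [AddCommGroup M] [Module S M] [Module R M] [IsScalarTower R S M]
  [AddCommGroup N] [Module S N] [Module R N] [IsScalarTower R S N]

/-- `b ↦ D (b • m)` -/
def orbit (D : M →ₗ[R] N) (m : M) : S →ₗ[R] N :=
  D ∘ₗ ((LinearMap.toSpanSingleton S M m).restrictScalars R)

@[simp] theorem orbit_apply (D : M →ₗ[R] N) (m : M) (b : S) : orbit D m b = D (b • m) := rfl

theorem isDiffOpLE_orbit : ∀ {k : ℕ} {D : M →ₗ[R] N}, IsDiffOpLE R S M N k D → ∀ m,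
    IsDiffOpLE R S S N k (orbit D m)
  | 0, D, h, m => fun b x => by
    show D ((b • x) • m) = b • D (x • m)
    rw [smul_eq_mul, mul_smul]
    exact h b (x • m)
  | k + 1, D, h, m => fun b => by
    have : commutator R S S N (orbit D m) b = orbit (commutator R S M N D b) m := by
      ext x; simp [commutator_apply, mul_smul]
    rw [this]
    exact isDiffOpLE_orbit (h b) m

/-- truncated ring of principal parts -/
abbrev PP (R S : Type u) [CommRing R] [CommRing S] [Algebra R S] (k : ℕ) : Type u :=
  (S ⊗[R] S) ⧸ KaehlerDifferential.ideal R S ^ (k + 1)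

/-- the map on principal parts attached to an operator -/
def ppMap {k : ℕ} {D : M →ₗ[R] N} (hD : IsDiffOpLE R S M N k D) (m : M) : PP R S k →ₗ[S] N :=
  ((Submodule.restrictScalars S (KaehlerDifferential.ideal R S ^ (k + 1))).liftQ
    { toFun := linearize R S S N (orbit D m)
      map_add' := map_add _
      map_smul' := fun c x => by
        induction x using TensorProduct.induction_on with
        | zero => simp
        | tmul a b => simp [TensorProduct.smul_tmul', mul_smul]
        | add x y hx hy => simp only [smul_add, map_add, hx, hy, RingHom.id_apply] }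
    (fun x hx => (isDiffOpLE_iff_linearize k _).1 (isDiffOpLE_orbit hD m) x hx)).comp
  (Submodule.Quotient.restrictScalarsEquiv S _).symm.toLinearMap

theorem ppMap_mk {k : ℕ} {D : M →ₗ[R] N} (hD : IsDiffOpLE R S M N k D) (m : M) (a b : S) :
    ppMap hD m (Ideal.Quotient.mk _ (a ⊗ₜ[R] b)) = a • D (b • m) := rfl

theorem ppMap_ext {k : ℕ} {N' : Type*} [AddCommGroup N'] {f g : PP R S k →+ N'}
    (h : ∀ a b : S, f (Ideal.Quotient.mk _ (a ⊗ₜ[R] b)) = g (Ideal.Quotient.mk _ (a ⊗ₜ[R] b))) : f = g := by
  ext p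
  obtain ⟨x, rfl⟩ := Ideal.Quotient.mk_surjective p
  induction x using TensorProduct.induction_on with
  | zero => rw [map_zero, map_zero, map_zero]
  | tmul a b => exact h a b
  | add x y hx hy => rw [map_add, map_add, map_add, hx, hy]

theorem ppMap_add {k : ℕ} {D : M →ₗ[R] N} (hD : IsDiffOpLE R S M N k D) (m m' : M) :
    ppMap hD (m + m') = ppMap hD m + ppMap hD m' :=
  LinearMap.toAddMonoidHom_injective (ppMap_ext fun a b => by
    simp [ppMap_mk, smul_add])

section Ext

variable {S' : Type u} [CommRing S'] [Algebra R S'] [Algebra S S'] [IsScalarTower R S S']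
  {P : Type u} [CommRing P] [Algebra R P] [Algebra S P] [IsScalarTower R S P]
  (ρ : S →ₐ[R] P) (Φ : M → P →ₗ[S] N) (hadd : ∀ m m', Φ (m + m') = Φ m + Φ m')
  (hsmul : ∀ (b : S) (m : M) (p : P), Φ (b • m) p = Φ m (p * ρ b))

/-- the right embedding -/
def rightEmb : S →ₐ[R] S' ⊗[S] P :=
  ((Algebra.TensorProduct.includeRight : P →ₐ[S] S' ⊗[S] P).restrictScalars R).comp ρ

theorem rightEmb_apply (b : S) : rightEmb (S' := S') ρ b = (1 : S') ⊗ₜ[S] ρ b := rfl

include hsmul in
theorem baseChange_smul (b : S) (m : M) (q : S' ⊗[S] P) :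
    (Φ (b • m)).baseChange S' q = (Φ m).baseChange S' (q * rightEmb ρ b) := by
  induction q using TensorProduct.induction_on with
  | zero => simp
  | add x y hx hy => rw [add_mul, map_add, map_add, hx, hy]
  | tmul s p =>
    rw [rightEmb_apply, Algebra.TensorProduct.tmul_mul_tmul, mul_one, LinearMap.baseChange_tmul,
      LinearMap.baseChange_tmul, hsmul]

variable (T : S' →ₐ[R] S' ⊗[S] P) (hT : ∀ b : S, T (algebraMap S S' b) = rightEmb ρ b)

include hsmul hT in
theorem baseChange_balance (q : S' ⊗[S] P) (b : S) (s : S') (m : M) :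
    (Φ m).baseChange S' (q * T (b • s)) = (Φ (b • m)).baseChange S' (q * T s) := by
  rw [baseChange_smul ρ Φ hsmul, Algebra.smul_def, map_mul T, hT, mul_assoc, mul_comm (T s)]

/-- `s ⊗ m ↦ Φ_m (q * T s)` -/
def extOp (q : S' ⊗[S] P) : S' ⊗[S] M →ₗ[R] S' ⊗[S] N :=
  let e : S' ⊗[S] M →+ S' ⊗[S] N := TensorProduct.liftAddHom
    (AddMonoidHom.mk' (fun s => AddMonoidHom.mk' (fun m => (Φ m).baseChange S' (q * T s))
        (fun m m' => by rw [hadd, LinearMap.baseChange_add, LinearMap.add_apply]))
      (fun s s' => AddMonoidHom.ext fun m => by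
        show (Φ m).baseChange S' (q * T (s + s')) = (Φ m).baseChange S' (q * T s) + (Φ m).baseChange S' (q * T s')
        rw [map_add, mul_add, map_add]))
    (fun b s m => baseChange_balance ρ Φ hsmul T hT q b s m)
  { toFun := e
    map_add' := map_add e
    map_smul' := fun r x => by
      induction x using TensorProduct.induction_on with
      | zero => simp
      | tmul s m =>
        rw [TensorProduct.smul_tmul', RingHom.id_apply]
        show (Φ m).baseChange S' (q * T (r • s)) = r • (Φ m).baseChange S' (q * T s)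
        rw [map_smul, mul_smul_comm, LinearMap.map_smul_of_tower]
      | add x y hx hy => simp only [smul_add, map_add, hx, hy] }

theorem extOp_tmul (q : S' ⊗[S] P) (s : S') (m : M) :
    extOp ρ Φ hadd hsmul T hT q (s ⊗ₜ[S] m) = (Φ m).baseChange S' (q * T s) := rfl

theorem extOp_zero (y : S' ⊗[S] M) : extOp ρ Φ hadd hsmul T hT 0 y = 0 := by
  induction y using TensorProduct.induction_on with
  | zero => rw [map_zero]
  | tmul s m => rw [extOp_tmul, zero_mul, map_zero]
  | add a b ha hb => rw [map_add, ha, hb, add_zero]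

theorem extOp_commutator (q : S' ⊗[S] P) (c : S') :
    commutator R S' (S' ⊗[S] M) (S' ⊗[S] N) (extOp ρ Φ hadd hsmul T hT q) c =
      extOp ρ Φ hadd hsmul T hT (q * (T c - algebraMap S' (S' ⊗[S] P) c)) := by
  ext x
  rw [commutator_apply]
  induction x using TensorProduct.induction_on with
  | zero => simp
  | tmul s m =>
    rw [TensorProduct.smul_tmul', extOp_tmul, extOp_tmul, extOp_tmul, smul_eq_mul, map_mul T, ← map_smul, ← map_sub]
    congr 1
    rw [Algebra.smul_def (R := S') (A := S' ⊗[S] P) c (q * T s)]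
    ring
  | add x y hx hy => rw [smul_add, map_add, map_add, smul_add, map_add, ← hx, ← hy]; abel

variable (I : Ideal P) {k : ℕ} (μ : P →ₐ[S] S)

/-- augmentation of the twisted principal parts -/
def augQ : S' ⊗[S] P →ₐ[S'] S' :=
  Algebra.TensorProduct.lift (AlgHom.id S' S') ((Algebra.ofId S S').comp μ) (fun _ _ => Commute.all _ _)

theorem augQ_tmul (s : S') (p : P) : augQ μ (s ⊗ₜ[S] p) = s * algebraMap S S' (μ p) :=
  Algebra.TensorProduct.lift_tmul _ _ _ _ _

theorem sub_augQ_mem (hμI : ∀ p, p - algebraMap S P (μ p) ∈ I) (q : S' ⊗[S] P) :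
    q - algebraMap S' (S' ⊗[S] P) (augQ μ q) ∈
      I.map (Algebra.TensorProduct.includeRight : P →ₐ[S] S' ⊗[S] P).toRingHom := by
  induction q using TensorProduct.induction_on with
  | zero => simp
  | tmul s p =>
    have : s ⊗ₜ[S] p - algebraMap S' (S' ⊗[S] P) (augQ μ (s ⊗ₜ[S] p)) =
        (s ⊗ₜ[S] (1 : P)) * ((1 : S') ⊗ₜ[S] (p - algebraMap S P (μ p))) := by
      rw [augQ_tmul, Algebra.TensorProduct.algebraMap_apply, Algebra.algebraMap_self_apply,
        Algebra.TensorProduct.tmul_mul_tmul, mul_one, one_mul, TensorProduct.tmul_sub,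
        mul_comm s, ← Algebra.smul_def, TensorProduct.smul_tmul, ← Algebra.algebraMap_eq_smul_one]
    rw [this]
    exact Ideal.mul_mem_left _ _ (Ideal.mem_map_of_mem _ (hμI p))
  | add x y hx hy =>
    rw [map_add, map_add, add_sub_add_comm]
    exact add_mem hx hy

include hadd hsmul in
theorem exists_ext [Algebra.FormallyEtale S S'] (hμρ : ∀ b, μ (ρ b) = b)
    (hμI : ∀ p, p - algebraMap S P (μ p) ∈ I) (hI : I ^ (k + 1) = ⊥) :
    ∃ D' : S' ⊗[S] M →ₗ[R] S' ⊗[S] N, IsDiffOpLE R S' (S' ⊗[S] M) (S' ⊗[S] N) k D' ∧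
      ∀ m : M, D' ((1 : S') ⊗ₜ[S] m) = (1 : S') ⊗ₜ[S] Φ m 1 := by
  let J := I.map (Algebra.TensorProduct.includeRight : P →ₐ[S] S' ⊗[S] P).toRingHom
  have hJ : J ^ (k + 1) = ⊥ := by
    show (I.map _) ^ (k + 1) = ⊥
    rw [← Ideal.map_pow, hI, Ideal.map_bot]
  let g : S' ⊗[S] P →ₐ[R] S' := (augQ μ).restrictScalars R
  have hker : RingHom.ker (g : S' ⊗[S] P →+* S') ≤ J := fun q hq => by
    have h0 : augQ μ q = 0 := hq
    have := sub_augQ_mem (S' := S') I μ hμI q
    rwa [h0, map_zero, sub_zero] at this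
  have hnil : IsNilpotent (RingHom.ker (g : S' ⊗[S] P →+* S')) :=
    ⟨k + 1, le_bot_iff.1 ((Ideal.pow_right_mono hker _).trans hJ.le)⟩
  obtain ⟨T, hT₀, hT⟩ := exists_lift_of_formallyEtale (rightEmb (S' := S') ρ) g
    (fun b => by show augQ μ _ = _; rw [rightEmb_apply, augQ_tmul, hμρ, one_mul])
    (fun c => ⟨algebraMap S' (S' ⊗[S] P) c, (augQ μ).commutes c⟩) hnil
  have hc : ∀ (j : ℕ) (q : S' ⊗[S] P), q ∈ J ^ j → ∀ c : S',
      q * (T c - algebraMap S' (S' ⊗[S] P) c) ∈ J ^ (j + 1) := fun j q hq c => by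
    refine SetLike.le_def.1 (le_of_eq (pow_succ J j).symm) (Ideal.mul_mem_mul hq ?_)
    have := sub_augQ_mem (S' := S') I μ hμI (T c)
    rwa [show augQ μ (T c) = c from hT₀ c] at this
  refine ⟨extOp ρ Φ hadd hsmul T hT 1, ?_, fun m => ?_⟩
  · suffices H : ∀ (i j : ℕ) (q : S' ⊗[S] P), q ∈ J ^ j → k ≤ i + j →
        IsDiffOpLE R S' (S' ⊗[S] M) (S' ⊗[S] N) i (extOp ρ Φ hadd hsmul T hT q) from
      H k 0 1 (by rw [pow_zero, Ideal.one_eq_top]; exact Submodule.mem_top) (by omega)
    intro i
    induction i with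
    | zero =>
      intro j q hq hij c x
      have h0 : q * (T c - algebraMap S' (S' ⊗[S] P) c) = 0 := by
        have := Ideal.pow_le_pow_right (show k + 1 ≤ j + 1 by omega) (hc j q hq c)
        rwa [hJ, Ideal.mem_bot] at this
      have h2 := LinearMap.congr_fun (extOp_commutator ρ Φ hadd hsmul T hT q c) x
      rw [commutator_apply, h0, extOp_zero] at h2
      exact sub_eq_zero.1 h2
    | succ i ih =>
      intro j q hq hij c
      rw [extOp_commutator]
      exact ih (j + 1) _ (hc j q hq c) (by omega)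
  · rw [extOp_tmul, one_mul, map_one, Algebra.TensorProduct.one_def, LinearMap.baseChange_tmul]

end Ext

section PPlemmas

variable (R S) in
/-- augmentation of principal parts -/
def ppAug (k : ℕ) : PP R S k →ₐ[S] S :=
  Ideal.Quotient.liftₐ _ (Algebra.TensorProduct.lmul'' R) (fun _ hx => Ideal.pow_le_self (Nat.succ_ne_zero k) hx)

theorem ppAug_sub_mem {k : ℕ} (p : PP R S k) : p - algebraMap S (PP R S k) (ppAug R S k p) ∈
    (KaehlerDifferential.ideal R S).map (Ideal.Quotient.mk (KaehlerDifferential.ideal R S ^ (k + 1))) := by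
  obtain ⟨x, rfl⟩ := Ideal.Quotient.mk_surjective p
  rw [show algebraMap S (PP R S k) (ppAug R S k (Ideal.Quotient.mk _ x)) =
    Ideal.Quotient.mk _ (algebraMap S (S ⊗[R] S) (Algebra.TensorProduct.lmul' R x)) from rfl, ← map_sub]
  refine Ideal.mem_map_of_mem _ ?_
  show Algebra.TensorProduct.lmul' R _ = 0
  rw [map_sub, sub_eq_zero]
  simp [Algebra.TensorProduct.algebraMap_apply]

end PPlemmas

theorem exists_diffOp_baseChange {S' : Type u} [CommRing S'] [Algebra R S'] [Algebra S S'] [IsScalarTower R S S']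
    [Algebra.FormallyEtale S S'] {k : ℕ} {D : M →ₗ[R] N} (hD : IsDiffOpLE R S M N k D) :
    ∃ D' : S' ⊗[S] M →ₗ[R] S' ⊗[S] N,
      IsDiffOpLE R S' (S' ⊗[S] M) (S' ⊗[S] N) k D' ∧ ∀ m : M, D' ((1 : S') ⊗ₜ[S] m) = (1 : S') ⊗ₜ[S] D m := by
  obtain ⟨D', h1, h2⟩ := exists_ext (S' := S') (P := PP R S k)
    ((Ideal.Quotient.mkₐ R _).comp Algebra.TensorProduct.includeRight) (ppMap hD) (ppMap_add hD)
    (fun b m p => by
      refine DFunLike.congr_fun (ppMap_ext (f := (ppMap hD (b • m)).toAddMonoidHom)
        (g := (ppMap hD m).toAddMonoidHom.comp (AddMonoidHom.mulRight _)) fun a c => ?_) p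
      show ppMap hD (b • m) (Ideal.Quotient.mk _ (a ⊗ₜ[R] c)) =
        ppMap hD m (Ideal.Quotient.mk _ (a ⊗ₜ[R] c) * Ideal.Quotient.mk _ ((1 : S) ⊗ₜ[R] b))
      rw [← map_mul, Algebra.TensorProduct.tmul_mul_tmul, mul_one, ppMap_mk, ppMap_mk, mul_smul])
    _ (k := k) (ppAug R S k)
    (fun b => show Algebra.TensorProduct.lmul' R ((1 : S) ⊗ₜ[R] b) = b by
      rw [Algebra.TensorProduct.lmul'_apply_tmul, one_mul])
    ppAug_sub_mem (by rw [← Ideal.map_pow, Ideal.map_quotient_self])
  refine ⟨D', h1, fun m => (h2 m).trans (congrArg _ ?_)⟩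
  exact (ppMap_mk hD m 1 1).trans (by rw [one_smul, one_smul])

section Unique

variable {S' : Type u} [CommRing S'] [Algebra R S'] [Algebra S S'] [IsScalarTower R S S']
  [Algebra.FormallyUnramified S S']
  {M' N' : Type u} [AddCommGroup M'] [Module S' M'] [Module S M'] [IsScalarTower S S' M'] [Module R M']
  [IsScalarTower R S' M'] [AddCommGroup N'] [Module S' N'] [Module S N'] [IsScalarTower S S' N'] [Module R N']
  [IsScalarTower R S' N']

theorem linear_of_base_linear : ∀ {k : ℕ} {E : M' →ₗ[R] N'}, IsDiffOpLE R S' M' N' k E →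
    (∀ (b : S) (x : M'), E (b • x) = b • E x) → ∀ (c : S') (x : M'), E (c • x) = c • E x
  | 0, E, h, _ => h
  | k + 1, E, h, hlin => by
    have hsub : ∀ (c : S') (a : S') (x : M'),
        commutator R S' M' N' E c (a • x) = a • commutator R S' M' N' E c x := fun c a x =>
      linear_of_base_linear (h c) (fun b y => by
        rw [commutator_apply, commutator_apply, smul_comm c b, hlin, hlin, smul_comm c b, smul_sub]) a x
    let der : Derivation S S' (M' →ₗ[S'] N') :=
      { toFun := fun c =>
          { toFun := fun x => commutator R S' M' N' E c x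
            map_add' := fun x y => map_add _ x y
            map_smul' := fun a x => hsub c a x }
        map_add' := fun c c' => LinearMap.ext fun x => by
          show commutator R S' M' N' E (c + c') x = commutator R S' M' N' E c x + commutator R S' M' N' E c' x
          simp only [commutator_apply, add_smul, map_add]; abel
        map_smul' := fun b c => LinearMap.ext fun x => by
          show commutator R S' M' N' E (b • c) x = b • commutator R S' M' N' E c x
          simp only [commutator_apply, smul_assoc, hlin, smul_sub]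
        map_one_eq_zero' := LinearMap.ext fun x => by
          show commutator R S' M' N' E 1 x = 0
          simp [commutator_apply]
        leibniz' := fun c c' => LinearMap.ext fun x => by
          show commutator R S' M' N' E (c * c') x =
            c • commutator R S' M' N' E c' x + c' • commutator R S' M' N' E c x
          rw [← hsub c c' x]
          simp only [commutator_apply, mul_smul, smul_sub]
          abel }
    intro c x
    have h0 : der c = 0 := by
      rw [← Derivation.liftKaehlerDifferential_comp der]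
      show der.liftKaehlerDifferential (KaehlerDifferential.D S S' c) = 0
      rw [Subsingleton.elim (KaehlerDifferential.D S S' c) 0, map_zero]
    exact sub_eq_zero.1 (LinearMap.congr_fun h0 x)

theorem eq_zero_of_vanish (f : M →ₗ[S] M') (hf : Submodule.span S' (Set.range f) = ⊤) :
    ∀ {k : ℕ} {E : M' →ₗ[R] N'}, IsDiffOpLE R S' M' N' k E → (∀ m, E (f m) = 0) → E = 0 := by
  have fin : ∀ {E : M' →ₗ[R] N'}, (∀ (c : S') (x : M'), E (c • x) = c • E x) → (∀ m, E (f m) = 0) → E = 0 := by
    intro E h h0
    ext x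
    have hx : x ∈ Submodule.span S' (Set.range f) := by rw [hf]; exact Submodule.mem_top
    induction hx using Submodule.span_induction with
    | mem y hy => obtain ⟨m, rfl⟩ := hy; exact h0 m
    | zero => simp
    | add y z _ _ hy hz => simp only [map_add, hy, hz, LinearMap.zero_apply, add_zero]
    | smul c y _ hy => simp only [LinearMap.zero_apply] at hy ⊢; rw [h, hy, smul_zero]
  intro k
  induction k with
  | zero => exact fun h h0 => fin h h0
  | succ k ih =>
    intro E h h0
    refine fin (linear_of_base_linear (R := R) (S := S) (S' := S') (M' := M') (N' := N') (k := k + 1) (E := E) h fun b x => ?_) h0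
    have h1 : commutator R S' M' N' E (algebraMap S S' b) = 0 := ih (h _) fun m => by
      rw [commutator_apply, h0, smul_zero, sub_zero, algebraMap_smul, ← map_smul, h0]
    have h2 := LinearMap.congr_fun h1 x
    rw [commutator_apply, algebraMap_smul, algebraMap_smul] at h2
    exact sub_eq_zero.1 h2

theorem ext_of_vanish (f : M →ₗ[S] M') (hf : Submodule.span S' (Set.range f) = ⊤) {k : ℕ} {E E' : M' →ₗ[R] N'}
    (hE : IsDiffOpLE R S' M' N' k E) (hE' : IsDiffOpLE R S' M' N' k E') (h : ∀ m, E (f m) = E' (f m)) : E = E' :=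
  sub_eq_zero.1 (eq_zero_of_vanish f hf (isDiffOpLE_sub k hE hE') fun m => by
    rw [LinearMap.sub_apply, h, sub_self])

end Unique

theorem span_range_mk {S' : Type u} [CommRing S'] [Algebra S S'] :
    Submodule.span S' (Set.range (TensorProduct.mk S S' M 1)) = ⊤ := by
  refine top_unique fun x _ => ?_
  induction x using TensorProduct.induction_on with
  | zero => exact zero_mem _
  | tmul s m =>
    rw [show s ⊗ₜ[S] m = s • ((1 : S') ⊗ₜ[S] m) by rw [TensorProduct.smul_tmul', smul_eq_mul, mul_one]]
    exact Submodule.smul_mem _ _ (Submodule.subset_span ⟨m, rfl⟩)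
  | add x y hx hy => exact add_mem (hx Submodule.mem_top) (hy Submodule.mem_top)

theorem existsUnique_baseChange {S' : Type u} [CommRing S'] [Algebra R S'] [Algebra S S'] [IsScalarTower R S S']
    [Algebra.FormallyEtale S S'] {k : ℕ} {D : M →ₗ[R] N} (hD : IsDiffOpLE R S M N k D) :
    ∃! D' : S' ⊗[S] M →ₗ[R] S' ⊗[S] N,
      IsDiffOpLE R S' (S' ⊗[S] M) (S' ⊗[S] N) k D' ∧
        D' ∘ₗ (TensorProduct.mk S S' M 1).restrictScalars R =
          (TensorProduct.mk S S' N 1).restrictScalars R ∘ₗ D := by
  obtain ⟨D', h1, h2⟩ := exists_diffOp_baseChange (S' := S') hD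
  refine ⟨D', ⟨h1, LinearMap.ext h2⟩, fun E ⟨hE, hE'⟩ => ?_⟩
  refine ext_of_vanish (TensorProduct.mk S S' M 1) span_range_mk hE h1 fun m => ?_
  exact (LinearMap.congr_fun hE' m).trans (h2 m).symm

end Groth.Agent.Diff16
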